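import Cfsg.Agent.H533.Wf.Inner

/-!
# S3826: a kill by a subgroup of index prime to `p` with a simple quotient by a central subgroup

`M < G` proper, `p ∤ |G : M|`, `φ : M → Y` onto a nonabelian simple group with central kernel, e.g. `M = C(x)`,
`x` of order `p` in the center of a Sylow subgroup, `M/⟨x⟩` simple: there is no configuration. (Ly: `3.McL`, Suz: `3.U4(3)`.)
Proof: two elements outside the kernel: induction in `Y`; all elements of `C ∩ M` in the kernel: `false_of_sylow`.
-/

set_option autoImplicit false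

namespace Cfsg.Agent.H870.Wf

open Subgroup Cfsg Cfsg.Agent.H533.T5 Cfsg.Agent.H533.Wf

universe u

variable {p : ℕ} {G : Type u} [Group G] [Finite G] {S : Subgroup G} {C D : Set G}

/-- The general kill: `M` proper of index prime to `p`, `φ : M → Y`, `L ⊴ Y` quasi-simple; the elements of order `p` of
`M` mapped into `C(L)` commute with the elements of order `p` of `M`. -/
theorem false_of_quot [hp : Fact p.Prime] (h : Cfg p S C D) {M : Subgroup G} (hM : M ≠ ⊤)
    (hidx : ¬ p ∣ M.index) {Y : Type u} [Group Y] (φ : M →* Y) (hφ : Function.Surjective φ) {L : Subgroup Y}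
    (hLn : L.Normal) (hL : QS L)
    (hcomm : ∀ x (hx : x ∈ M), orderOf x = p → φ ⟨x, hx⟩ ∈ Subgroup.centralizer (L : Set Y) →
      ∀ y ∈ M, orderOf y = p → Commute x y) : False := by
  -- a Sylow subgroup of `G` in `M`
  obtain ⟨P, hPM⟩ : ∃ P : Sylow p G, (P : Subgroup G) ≤ M := by
    obtain ⟨Q⟩ := (inferInstance : Nonempty (Sylow p M))
    have h1 : IsPGroup p ((Q : Subgroup M).map M.subtype) := Q.2.map _
    obtain ⟨P, hP⟩ := h1.exists_le_sylow
    refine ⟨P, ?_⟩
    have h2 : Nat.card P = Nat.card ((Q : Subgroup M).map M.subtype) := by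
      rw [Nat.card_congr ((Q : Subgroup M).equivMapOfInjective M.subtype M.subtype_injective).toEquiv.symm,
        P.card_eq_multiplicity, Q.card_eq_multiplicity]
      have h3 := M.card_mul_index
      have h4 : M.index ≠ 0 := Subgroup.index_ne_zero_of_finite
      have h5 : Nat.card M ≠ 0 := Nat.card_pos.ne'
      rw [← h3, Nat.factorization_mul h5 h4, Finsupp.add_apply, Nat.factorization_eq_zero_of_not_dvd hidx,
        add_zero]
    have h6 : (Q : Subgroup M).map M.subtype = P := Subgroup.eq_of_le_of_card_ge hP h2.le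
    rw [← h6]
    exact Subgroup.map_subtype_le _
  by_cases hC : ∃ c ∈ C, ∃ hc : c ∈ M, φ ⟨c, hc⟩ ∉ Subgroup.centralizer (L : Set Y)
  · by_cases hD : ∃ d ∈ D, ∃ hd : d ∈ M, φ ⟨d, hd⟩ ∉ Subgroup.centralizer (L : Set Y)
    · obtain ⟨c, hcC, hcM, hc⟩ := hC
      obtain ⟨d, hdD, hdM, hd⟩ := hD
      exact h.false_of_hom hM φ hφ hLn hL hcC hdD hcM hdM hc hd
    · push Not at hD
      exact h.false_of_sylow P fun c hcC hcP d hdD hdP =>
        (hcomm d (hPM hdP) (h.ordD d hdD) (hD d hdD (hPM hdP)) c (hPM hcP) (h.ordC c hcC)).symm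
  · push Not at hC
    exact h.false_of_sylow P fun c hcC hcP d hdD hdP =>
      hcomm c (hPM hcP) (h.ordC c hcC) (hC c hcC (hPM hcP)) d (hPM hdP) (h.ordD d hdD)

/-- `M` proper of index prime to `p` with a nonabelian simple quotient by a central subgroup -/
theorem false_of_central [hp : Fact p.Prime] (h : Cfg p S C D) {M : Subgroup G} (hM : M ≠ ⊤)
    (hidx : ¬ p ∣ M.index) {Y : Type u} [Group Y] [IsSimpleGroup Y] (hnc : ¬ IsMulCommutative Y)
    (φ : M →* Y) (hφ : Function.Surjective φ) (hker : φ.ker ≤ center M) : False := by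
  have hLtop : QS (⊤ : Subgroup Y) := by
    refine QS.of_simple ((Subgroup.topEquiv : (⊤ : Subgroup Y) ≃* Y).isSimpleGroup) ?_
    intro hc
    exact hnc ⟨⟨fun a b => congrArg Subtype.val (hc.is_comm.comm (⟨a, mem_top a⟩ : (⊤ : Subgroup Y))
      ⟨b, mem_top b⟩)⟩⟩
  have hcen : Subgroup.centralizer ((⊤ : Subgroup Y) : Set Y) = ⊥ := by
    rcases (inferInstance : (center Y).Normal).eq_bot_or_eq_top with h1 | h1
    · rw [Subgroup.coe_top, Subgroup.centralizer_univ, h1]
    · exact absurd ⟨⟨fun a b => (Subgroup.mem_center_iff.1 (h1 ▸ mem_top b : b ∈ center Y) a)⟩⟩ hnc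
  refine false_of_quot h hM hidx φ hφ inferInstance hLtop ?_
  intro x hx _ h1 y hy _
  rw [hcen, mem_bot] at h1
  have h2 := hker (MonoidHom.mem_ker.2 h1)
  exact congrArg Subtype.val (Subgroup.mem_center_iff.1 h2 ⟨y, hy⟩).symm

/-- the kill with `M / Z(M)` -/
theorem false_of_center [hp : Fact p.Prime] (h : Cfg p S C D) {M : Subgroup G} (hM : M ≠ ⊤)
    (hidx : ¬ p ∣ M.index) (hs : IsSimpleGroup (M ⧸ center M)) (hnc : ¬ IsMulCommutative (M ⧸ center M)) : False :=
  false_of_central h hM hidx hnc (QuotientGroup.mk' (center M)) (QuotientGroup.mk'_surjective _)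
    (by rw [QuotientGroup.ker_mk'])

end Cfsg.Agent.H870.Wf
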